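import Cfsg.Agent.Lib.Coprime.CommGen.Theorem

/-!
The generation lemma in the form of the statement S1329, with solvability of `Y` as a hypothesis
(it follows from the odd order theorem).
-/

set_option autoImplicit false

namespace Cfsg.Agent.Coprime.CommGen

/-- `C_Y(B)` is generated by the `C_Y(B) ∩ [C_Y(B₀), A]` with `B / B₀` cyclic. -/
theorem generation {G : Type*} [Group G] [Finite G] (A B Y : Subgroup G) (hA2 : IsPGroup 2 ↥A)
    (hAc : IsMulCommutative ↥A) (hB : B ≤ A) (hYodd : Odd (Nat.card ↥Y))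
    (hYsolv : Group.IsSolvable ↥Y) (hAY : A ≤ Subgroup.normalizer (Y : Set G)) (hYA : ⁅Y, A⁆ = Y) :
    Y ⊓ Subgroup.centralizer (B : Set G) =
      ⨆ B₀ : {B₀ : Subgroup G // B₀ ≤ B ∧ ∀ [(B₀.subgroupOf B).Normal], IsCyclic (↥B ⧸ B₀.subgroupOf B)},
        Y ⊓ Subgroup.centralizer (B : Set G) ⊓
          ⁅Y ⊓ Subgroup.centralizer ((B₀ : Subgroup G) : Set G), A⁆ :=
  (inf_centralizer_eq ⟨hA2, hAc, hB, hYodd, hYsolv, hAY⟩ hYA).trans
    (iSup_subtype'' _ _ |>.symm)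

end Cfsg.Agent.Coprime.CommGen
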