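import Cfsg.Agent.Lib.Coprime.Generation
import Cfsg.Agent.Lib.Coprime.Commutator

/-!
Fixed points of a subgroup of an abelian `2`-group acting on a solvable group of odd order:
generation by fixed points of subgroups with cyclic quotient, the family of commutator terms,
and products of invariant normal subgroups.
-/

set_option autoImplicit false
set_option maxHeartbeats 800000

namespace Cfsg.Agent.Coprime.CommGen

open scoped commutatorElement

variable {G : Type*} [Group G]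

/-- `K` is a subgroup of `B` with cyclic quotient. -/
def CycQuot (B K : Subgroup G) : Prop :=
  K ≤ B ∧ ∀ [(K.subgroupOf B).Normal], IsCyclic (↥B ⧸ K.subgroupOf B)

theorem cycQuot_self (B : Subgroup G) : CycQuot B B := by
  refine ⟨le_rfl, ?_⟩
  intro _
  haveI : Subsingleton (↥B ⧸ B.subgroupOf B) := by
    rw [Subgroup.subgroupOf_self]
    exact QuotientGroup.subsingleton_quotient_top
  infer_instance

theorem exists_two_of_not_cycQuot [Finite G] {B E : Subgroup G} [IsMulCommutative B] (hEB : E ≤ B)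
    (h2 : IsPGroup 2 B) (h : ¬ CycQuot B E) :
    ∃ x ∈ B, ∃ y ∈ B, x ∉ E ∧ y ∉ E ∧ x * y ∉ E ∧ x * x ∈ E ∧ y * y ∈ E := by
  classical
  haveI hn : (E.subgroupOf B).Normal := ⟨fun n hn g => by
    rwa [show g * n * g⁻¹ = n by rw [mul_comm' g n, mul_inv_cancel_right]]⟩
  letI : CommGroup (↥B ⧸ E.subgroupOf B) :=
    { (inferInstance : Group (↥B ⧸ E.subgroupOf B)) with
      mul_comm := fun a b => by
        induction a using QuotientGroup.induction_on with
        | _ a => induction b using QuotientGroup.induction_on with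
          | _ b => exact congrArg _ (mul_comm' a b) }
  have hnc : ¬ IsCyclic (↥B ⧸ E.subgroupOf B) := fun hc => h ⟨hEB, hc⟩
  obtain ⟨q, hq, x, y, hx1, hx, hy, hyx⟩ := exists_two_independent_of_not_isCyclic _ hnc
  haveI := Fact.mk hq
  obtain ⟨k, hk⟩ := (h2.to_quotient (E.subgroupOf B)) x
  have hq2 : q = 2 := by
    have ho := orderOf_dvd_of_pow_eq_one hk
    rw [orderOf_eq_prime hx hx1] at ho
    exact (Nat.prime_dvd_prime_iff_eq hq Nat.prime_two).1 (hq.dvd_of_dvd_pow ho)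
  subst hq2
  obtain ⟨a, rfl⟩ := QuotientGroup.mk_surjective x
  obtain ⟨b, rfl⟩ := QuotientGroup.mk_surjective y
  have hm : ∀ c : B, (c : ↥B ⧸ E.subgroupOf B) = 1 ↔ (c : G) ∈ E := fun c => by
    rw [QuotientGroup.eq_one_iff, Subgroup.mem_subgroupOf]
  refine ⟨a, a.2, b, b.2, fun ha => hx1 ((hm a).2 ha), fun hb => hyx (((hm b).2 hb).symm ▸ one_mem _),
    fun hab => hyx ?_, ?_, ?_⟩
  · have h1 : (a : ↥B ⧸ E.subgroupOf B) * b = 1 := by
      rw [← QuotientGroup.mk_mul, hm]; exact hab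
    rw [eq_inv_of_mul_eq_one_right h1]
    exact inv_mem (Subgroup.mem_zpowers _)
  · have := (hm (a * a)).1 (by rw [QuotientGroup.mk_mul, ← pow_two, hx])
    simpa using this
  · have := (hm (b * b)).1 (by rw [QuotientGroup.mk_mul, ← pow_two, hy])
    simpa using this

theorem coprime_of_odd [Finite G] {A Y : Subgroup G} (hA : IsPGroup 2 A) (hY : Odd (Nat.card Y)) :
    (Nat.card A).Coprime (Nat.card Y) := by
  obtain ⟨k, hk⟩ := IsPGroup.iff_card.1 hA
  rw [hk]
  exact (Nat.coprime_two_left.2 hY).pow_left k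

theorem odd_of_le [Finite G] {Y Z : Subgroup G} (h : Z ≤ Y) (hY : Odd (Nat.card Y)) :
    Odd (Nat.card Z) :=
  hY.of_dvd_nat (Subgroup.card_dvd_of_le h)

theorem fixed_mod_sq [Finite G] {Y D : Subgroup G} {x k : G} (hxY : x ∈ Subgroup.normalizer (Y : Set G))
    (hxD : x ∈ Subgroup.normalizer (D : Set G)) (hDY : D ≤ Y) (hYD : Y ≤ Subgroup.normalizer (D : Set G))
    (hcomm : ∀ a ∈ Y, ∀ b ∈ Y, a * b * a⁻¹ * b⁻¹ ∈ D)
    (hx : IsPGroup 2 (Subgroup.zpowers x)) (hY : Odd (Nat.card Y))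
    (hsq : ∀ a ∈ Y, x * (x * a * x⁻¹) * x⁻¹ = a) (hk : k ∈ Y) :
    k * (x * k * x⁻¹) ∈ (Y ⊓ Subgroup.centralizer ({x} : Set G)) ⊔ D := by
  have hxk : x * k * x⁻¹ ∈ Y := (Subgroup.mem_normalizer_iff.1 hxY k).1 hk
  set w := k * (x * k * x⁻¹) with hw
  have hwY : w ∈ Y := mul_mem hk hxk
  have h1 : x * w * x⁻¹ = (x * k * x⁻¹) * k := by
    have := hsq k hk
    calc x * w * x⁻¹ = (x * k * x⁻¹) * (x * (x * k * x⁻¹) * x⁻¹) := by rw [hw]; simp [mul_assoc]
      _ = (x * k * x⁻¹) * k := by rw [this]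
  have hfix : ∀ a ∈ Subgroup.zpowers x, a * w * a⁻¹ * w⁻¹ ∈ D := by
    have hone : x * w * x⁻¹ * w⁻¹ ∈ D := by
      rw [h1, hw, mul_inv_rev, ← mul_assoc]
      exact hcomm _ hxk k hk
    intro a ha
    obtain ⟨n, rfl⟩ := Submonoid.mem_powers_iff _ _ |>.mp (mem_powers_iff_mem_zpowers.mpr ha)
    induction n with
    | zero => simp [one_mem]
    | succ n ih =>
      have h := mul_mem ((Subgroup.mem_normalizer_iff.1 hxD _).1
        (ih (pow_mem (Subgroup.mem_zpowers _) n))) hone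
      simpa [pow_succ', mul_assoc] using h
  obtain ⟨c, hc, hwc⟩ := exists_fixed_mod (A := Subgroup.zpowers x) (K := Y) (N := D)
    (coprime_of_odd hx hY) (Or.inl (isSolvable_of_isMulCommutative _)) hDY hYD
    (Subgroup.zpowers_le.2 hxD) hwY hfix
  have : w = c * (w⁻¹ * c)⁻¹ := by group
  rw [this]
  refine mul_mem (Subgroup.mem_sup_left ⟨hc.1, ?_⟩) (Subgroup.mem_sup_right (inv_mem hwc))
  exact Subgroup.mem_centralizer_singleton_iff.2
    (Subgroup.mem_centralizer_iff.1 hc.2 x (Subgroup.mem_zpowers x)).symm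

/-- Generation by the fixed points of three commuting involutory automorphisms. -/
theorem le_three [Finite G] {x y : G} (hxy : x * y = y * x) (hx : IsPGroup 2 (Subgroup.zpowers x))
    (hy : IsPGroup 2 (Subgroup.zpowers y)) (hxy2 : IsPGroup 2 (Subgroup.zpowers (x * y))) :
    ∀ n, ∀ Y : Subgroup G, Nat.card Y = n → Odd (Nat.card Y) → Group.IsSolvable Y →
      x ∈ Subgroup.normalizer (Y : Set G) → y ∈ Subgroup.normalizer (Y : Set G) →
      (∀ a ∈ Y, x * (x * a * x⁻¹) * x⁻¹ = a) → (∀ a ∈ Y, y * (y * a * y⁻¹) * y⁻¹ = a) →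
      Y ≤ (Y ⊓ Subgroup.centralizer ({x} : Set G)) ⊔ (Y ⊓ Subgroup.centralizer ({y} : Set G)) ⊔
        (Y ⊓ Subgroup.centralizer ({x * y} : Set G)) := by
  intro n
  induction n using Nat.strongRecOn with
  | ind n ih =>
  intro Y hn hodd hsolv hxY hyY hxs hys
  rcases eq_or_ne Y ⊥ with rfl | hne
  · exact bot_le
  set D : Subgroup G := ⁅Y, Y⁆ with hD
  have hDlt : D < Y := commutator_lt_of_isSolvable hsolv hne
  have hnorm : ∀ z ∈ Subgroup.normalizer (Y : Set G), z ∈ Subgroup.normalizer (D : Set G) := by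
    intro z hz
    rw [← conj_smul_eq_self_iff, hD, conj_smul_commutator, conj_smul_eq_self_iff.mpr hz]
  have hcd : Nat.card D < n := hn ▸ (Subgroup.card_le_of_le hDlt.le).lt_of_ne
    (fun h => hDlt.ne (Subgroup.eq_of_le_of_card_ge hDlt.le h.ge))
  have hDgen : D ≤ (Y ⊓ Subgroup.centralizer ({x} : Set G)) ⊔ (Y ⊓ Subgroup.centralizer ({y} : Set G)) ⊔
      (Y ⊓ Subgroup.centralizer ({x * y} : Set G)) :=
    (ih _ hcd D rfl (odd_of_le hDlt.le hodd) (isSolvable_of_le hDlt.le hsolv) (hnorm x hxY)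
      (hnorm y hyY) (fun a ha => hxs a (hDlt.le ha)) (fun a ha => hys a (hDlt.le ha))).trans
      (sup_le_sup (sup_le_sup (inf_le_inf_right _ hDlt.le) (inf_le_inf_right _ hDlt.le))
        (inf_le_inf_right _ hDlt.le))
  set T := (Y ⊓ Subgroup.centralizer ({x} : Set G)) ⊔ (Y ⊓ Subgroup.centralizer ({y} : Set G)) ⊔
      (Y ⊓ Subgroup.centralizer ({x * y} : Set G)) with hT
  have hcomm : ∀ a ∈ Y, ∀ b ∈ Y, a * b * a⁻¹ * b⁻¹ ∈ D := fun a ha b hb =>
    commutatorElement_def a b ▸ Subgroup.commutator_mem_commutator ha hb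
  have hYD : Y ≤ Subgroup.normalizer (D : Set G) := fun z hz => hnorm z (Subgroup.le_normalizer hz)
  intro k hk
  have hxk : x * k * x⁻¹ ∈ Y := (Subgroup.mem_normalizer_iff.1 hxY k).1 hk
  have hyk : y * k * y⁻¹ ∈ Y := (Subgroup.mem_normalizer_iff.1 hyY k).1 hk
  have e : (x * y) * (x * k * x⁻¹) * (x * y)⁻¹ = y * k * y⁻¹ := by
    have h1 := hxs (y * k * y⁻¹) hyk
    calc (x * y) * (x * k * x⁻¹) * (x * y)⁻¹
        = x * ((y * x) * k * (y * x)⁻¹) * x⁻¹ := by simp [mul_assoc]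
      _ = x * ((x * y) * k * (x * y)⁻¹) * x⁻¹ := by rw [hxy]
      _ = x * (x * (y * k * y⁻¹) * x⁻¹) * x⁻¹ := by simp [mul_assoc]
      _ = y * k * y⁻¹ := h1
  have hxys : ∀ a ∈ Y, (x * y) * ((x * y) * a * (x * y)⁻¹) * (x * y)⁻¹ = a := by
    intro a ha
    have hya : y * (y * a * y⁻¹) * y⁻¹ = a := hys a ha
    calc (x * y) * ((x * y) * a * (x * y)⁻¹) * (x * y)⁻¹
        = x * ((y * x) * (y * a * y⁻¹) * (y * x)⁻¹) * x⁻¹ := by simp [mul_assoc]
      _ = x * ((x * y) * (y * a * y⁻¹) * (x * y)⁻¹) * x⁻¹ := by rw [hxy]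
      _ = x * (x * (y * (y * a * y⁻¹) * y⁻¹) * x⁻¹) * x⁻¹ := by simp [mul_assoc]
      _ = a := by rw [hya, hxs a ha]
  have h1 : k * (x * k * x⁻¹) ∈ T :=
    sup_le (le_sup_left.trans le_sup_left) hDgen
      (fixed_mod_sq hxY (hnorm x hxY) hDlt.le hYD hcomm hx hodd hxs hk)
  have h2 : k * (y * k * y⁻¹) ∈ T :=
    sup_le (le_sup_right.trans le_sup_left) hDgen
      (fixed_mod_sq hyY (hnorm y hyY) hDlt.le hYD hcomm hy hodd hys hk)
  have h3 : (x * k * x⁻¹) * (y * k * y⁻¹) ∈ T := by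
    have := fixed_mod_sq (Subgroup.mul_mem _ hxY hyY) (Subgroup.mul_mem _ (hnorm x hxY) (hnorm y hyY))
      hDlt.le hYD hcomm hxy2 hodd hxys hxk
    rw [e] at this
    exact sup_le le_sup_right hDgen this
  -- modulo `D` the group is commutative
  set u := x * k * x⁻¹
  set v := y * k * y⁻¹
  have hsq : k * k ∈ T := by
    have hd : u⁻¹ * k⁻¹ * u * k ∈ T := hDgen (by
      simpa [commutatorElement_def, mul_assoc] using hcomm u⁻¹ (inv_mem hxk) k⁻¹ (inv_mem hk))
    have e2 : (k * u) * (u⁻¹ * k⁻¹ * u * k) * ((k * v) * v⁻¹ * u⁻¹) *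
        (u * (v * ((u * v)⁻¹))) * 1 = u * k * k * u⁻¹ := by group
    have h4 : u * k * k * u⁻¹ ∈ T := by
      rw [← e2]
      have e3 : u * (v * ((u * v)⁻¹)) = 1 := by group
      rw [e3, mul_one, mul_one]
      have e4 : (k * v) * v⁻¹ * u⁻¹ = (k * v) * (u * v)⁻¹ := by group
      rw [e4]
      exact mul_mem (mul_mem h1 hd) (mul_mem h2 (inv_mem h3))
    have hd2 : k * k * u * (k * k)⁻¹ * u⁻¹ ∈ T := hDgen (hcomm _ (mul_mem hk hk) u hxk)
    have : k * k = (k * k * u * (k * k)⁻¹ * u⁻¹) * (u * k * k * u⁻¹) := by group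
    rw [this]
    exact mul_mem hd2 h4
  obtain ⟨m, hm⟩ := hodd
  have h5 : k ^ (2 * m + 1) = 1 := by
    have := orderOf_dvd_natCard (⟨k, hk⟩ : Y)
    rw [Subgroup.orderOf_mk, hm] at this
    exact orderOf_dvd_iff_pow_eq_one.1 this
  have : k = ((k * k) ^ m)⁻¹ := by
    rw [eq_inv_iff_mul_eq_one, ← pow_two, ← pow_mul, ← pow_succ', h5]
  rw [this]
  exact inv_mem (pow_mem hsq m)

/-- Generation by the fixed points of the subgroups with cyclic quotient. -/
theorem le_iSup_fixed [Finite G] {B Y : Subgroup G} [IsMulCommutative B] (hB : IsPGroup 2 B)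
    (hY : Odd (Nat.card Y)) (hsolv : Group.IsSolvable Y) (hBY : B ≤ Subgroup.normalizer (Y : Set G)) :
    Y ≤ ⨆ (K : Subgroup G) (_ : CycQuot B K), Y ⊓ Subgroup.centralizer (K : Set G) := by
  suffices h : ∀ n, ∀ Y : Subgroup G,
      Nat.card B - Nat.card (B ⊓ Subgroup.centralizer (Y : Set G) : Subgroup G) = n →
      Odd (Nat.card Y) → Group.IsSolvable Y → B ≤ Subgroup.normalizer (Y : Set G) →
      Y ≤ ⨆ (K : Subgroup G) (_ : CycQuot B K), Y ⊓ Subgroup.centralizer (K : Set G) from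
    h _ Y rfl hY hsolv hBY
  clear hY hsolv hBY Y
  intro n
  induction n using Nat.strongRecOn with
  | ind n ih =>
  intro Y hn hY hsolv hBY
  set E := B ⊓ Subgroup.centralizer (Y : Set G) with hE
  by_cases hc : CycQuot B E
  · intro y hy
    refine Subgroup.mem_iSup_of_mem E (Subgroup.mem_iSup_of_mem hc ⟨hy, ?_⟩)
    show y ∈ Subgroup.centralizer (E : Set G)
    rw [Subgroup.mem_centralizer_iff]
    intro e he
    exact (Subgroup.mem_centralizer_iff.1 (Subgroup.mem_inf.1 he).2 y hy).symm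
  obtain ⟨x, hxB, y, hyB, hxE, hyE, hxyE, hxx, hyy⟩ := exists_two_of_not_cycQuot inf_le_left hB hc
  have hp : ∀ z ∈ B, IsPGroup 2 (Subgroup.zpowers z) := fun z hz => hB.to_le (Subgroup.zpowers_le.2 hz)
  have hfix : ∀ z : G, z * z ∈ E → ∀ a ∈ Y, z * (z * a * z⁻¹) * z⁻¹ = a := fun z hz a ha => by
    have h : a * (z * z) = z * z * a := Subgroup.mem_centralizer_iff.1 hz.2 a ha
    calc z * (z * a * z⁻¹) * z⁻¹ = z * z * a * (z * z)⁻¹ := by simp [mul_assoc]
      _ = a := by rw [← h, mul_inv_cancel_right]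
  have hxy : x * y = y * x := congrArg Subtype.val (mul_comm' (⟨x, hxB⟩ : B) ⟨y, hyB⟩)
  refine (le_three hxy (hp x hxB) (hp y hyB) (hp _ (mul_mem hxB hyB)) _ Y rfl hY hsolv (hBY hxB)
    (hBY hyB) (hfix x hxx) (hfix y hyy)).trans ?_
  have step : ∀ z ∈ B, z ∉ E → Y ⊓ Subgroup.centralizer ({z} : Set G) ≤
      ⨆ (K : Subgroup G) (_ : CycQuot B K), Y ⊓ Subgroup.centralizer (K : Set G) := by
    intro z hzB hzE
    set Y' := Y ⊓ Subgroup.centralizer ({z} : Set G) with hY'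
    have hEE : E < B ⊓ Subgroup.centralizer (Y' : Set G) := by
      refine lt_of_le_of_ne (inf_le_inf_left _ (Subgroup.centralizer_le inf_le_left)) fun h => hzE ?_
      rw [h]
      exact ⟨hzB, Subgroup.mem_centralizer_iff.2 fun a ha =>
        Subgroup.mem_centralizer_singleton_iff.1 (Subgroup.mem_inf.1 ha).2⟩
    have hcard : Nat.card E < Nat.card (B ⊓ Subgroup.centralizer (Y' : Set G) : Subgroup G) :=
      (Subgroup.card_le_of_le hEE.le).lt_of_ne fun h =>
        hEE.ne (Subgroup.eq_of_le_of_card_ge hEE.le h.ge)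
    have hle : Nat.card (B ⊓ Subgroup.centralizer (Y' : Set G) : Subgroup G) ≤ Nat.card B :=
      Subgroup.card_le_of_le inf_le_left
    have hnz : B ≤ Subgroup.normalizer (Y' : Set G) := by
      intro b hb
      rw [Subgroup.mem_normalizer_iff]
      intro a
      have hbz : b * z = z * b := congrArg Subtype.val (mul_comm' (⟨b, hb⟩ : B) ⟨z, hzB⟩)
      simp only [hY', Subgroup.mem_inf, Subgroup.mem_centralizer_singleton_iff,
        ← Subgroup.mem_normalizer_iff.1 (hBY hb) a]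
      refine and_congr_right fun _ => ?_
      have hbz' : z * b⁻¹ = b⁻¹ * z := by
        rw [eq_inv_mul_iff_mul_eq, ← mul_assoc, hbz, mul_inv_cancel_right]
      constructor <;> intro h
      · calc b * a * b⁻¹ * z = b * (a * z) * b⁻¹ := by rw [mul_assoc _ b⁻¹ z, ← hbz']; simp [mul_assoc]
          _ = z * (b * a * b⁻¹) := by rw [h, ← mul_assoc, hbz]; simp [mul_assoc]
      · have h2 := congrArg (fun t => b⁻¹ * t * b) h
        calc a * z = b⁻¹ * (b * a * b⁻¹ * z) * b := by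
              rw [mul_assoc _ b⁻¹ z, ← hbz']; simp [mul_assoc]
          _ = b⁻¹ * (z * (b * a * b⁻¹)) * b := h2
          _ = z * a := by rw [← mul_assoc b⁻¹ z, ← hbz']; simp [mul_assoc]
    have hlt : Nat.card B - Nat.card (B ⊓ Subgroup.centralizer (Y' : Set G) : Subgroup G) < n := by
      rw [← hn]
      exact Nat.sub_lt_sub_left (hcard.trans_le hle) hcard
    refine (ih _ hlt Y' rfl (odd_of_le inf_le_left hY) (isSolvable_of_le inf_le_left hsolv)
      hnz).trans (iSup₂_mono fun K _ => inf_le_inf_right _ inf_le_left)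
  exact sup_le (sup_le (step x hxB hxE) (step y hyB hyE)) (step _ (mul_mem hxB hyB) hxyE)

end Cfsg.Agent.Coprime.CommGen
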