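import Cfsg.Agent.Lib.Coprime.CommGen.Basic

/-!
`C_Y(B)` is generated by the `C_Y(B) ∩ [C_Y(K), A]`, `B / K` cyclic, for a solvable group `Y` of
odd order with `Y = [Y, A]`, `A` an abelian `2`-group and `B ≤ A`.
-/

set_option autoImplicit false
set_option maxHeartbeats 800000

namespace Cfsg.Agent.Coprime.CommGen

open scoped commutatorElement

universe u

variable {G : Type u} [Group G]

/-- The term attached to `K`. -/
def term (A B Y K : Subgroup G) : Subgroup G :=
  Y ⊓ Subgroup.centralizer (B : Set G) ⊓ ⁅Y ⊓ Subgroup.centralizer (K : Set G), A⁆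

/-- The subgroup generated by all the terms. -/
def gens (A B Y : Subgroup G) : Subgroup G := ⨆ (K : Subgroup G) (_ : CycQuot B K), term A B Y K

theorem term_le_gens {A B Y K : Subgroup G} (hK : CycQuot B K) : term A B Y K ≤ gens A B Y :=
  fun _ h => Subgroup.mem_iSup_of_mem K (Subgroup.mem_iSup_of_mem hK h)

theorem gens_le (A B Y : Subgroup G) : gens A B Y ≤ Y ⊓ Subgroup.centralizer (B : Set G) :=
  iSup₂_le fun _ _ => inf_le_left

theorem gens_mono {A B Y Z : Subgroup G} (h : Z ≤ Y) : gens A B Z ≤ gens A B Y :=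
  iSup₂_mono fun _ _ => inf_le_inf (inf_le_inf_right _ h)
    (Subgroup.commutator_mono (inf_le_inf_right _ h) le_rfl)

/-- The hypotheses. -/
structure Setup (A B Y : Subgroup G) : Prop where
  two : IsPGroup 2 A
  comm : IsMulCommutative A
  le : B ≤ A
  odd : Odd (Nat.card Y)
  solv : Group.IsSolvable Y
  norm : A ≤ Subgroup.normalizer (Y : Set G)

namespace Setup

variable {A B Y : Subgroup G}

theorem cop [Finite G] (h : Setup A B Y) {S : Subgroup G} (hS : S ≤ A) :
    (Nat.card S).Coprime (Nat.card Y) :=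
  (coprime_of_odd h.two h.odd).coprime_dvd_left (Subgroup.card_dvd_of_le hS)

theorem le_centralizer (h : Setup A B Y) {K : Subgroup G} (hK : K ≤ A) :
    A ≤ Subgroup.centralizer (K : Set G) := fun a ha => Subgroup.mem_centralizer_iff.2 fun k hk =>
  haveI := h.comm
  congrArg Subtype.val (mul_comm' (⟨k, hK hk⟩ : A) ⟨a, ha⟩)

theorem isComm (h : Setup A B Y) {K : Subgroup G} (hK : K ≤ A) : IsMulCommutative K :=
  ⟨⟨fun a b => Subtype.ext <| Subgroup.mem_centralizer_iff.1 (h.le_centralizer hK (hK b.2)) a a.2⟩⟩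

theorem norm_centralizer {K : Subgroup G} (z : G) (hz : z ∈ Subgroup.centralizer (K : Set G)) :
    z ∈ Subgroup.normalizer ((Subgroup.centralizer (K : Set G) : Subgroup G) : Set G) :=
  Subgroup.le_normalizer hz

theorem norm_fixed (h : Setup A B Y) {K : Subgroup G} (hK : K ≤ A) :
    A ≤ Subgroup.normalizer ((Y ⊓ Subgroup.centralizer (K : Set G) : Subgroup G) : Set G) :=
  le_trans (le_inf h.norm fun a ha => norm_centralizer a (h.le_centralizer hK ha))
    Subgroup.inf_normalizer_le_normalizer_inf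

theorem of_le [Finite G] (h : Setup A B Y) {Z : Subgroup G} (hZ : Z ≤ Y)
    (hn : A ≤ Subgroup.normalizer (Z : Set G)) : Setup A B Z :=
  ⟨h.two, h.comm, h.le, odd_of_le hZ h.odd, isSolvable_of_le hZ h.solv, hn⟩

theorem norm_commutator (h : Setup A B Y) {S : Subgroup G} (hS : A ≤ Subgroup.normalizer (S : Set G)) :
    A ≤ Subgroup.normalizer ((⁅S, A⁆ : Subgroup G) : Set G) :=
  Subgroup.normalizer_commutator_ge_right S A

/-- The term `[C_Y(K), A]`. -/
theorem comm_fixed [Finite G] (h : Setup A B Y) {K : Subgroup G} (hK : K ≤ A) :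
    ⁅Y ⊓ Subgroup.centralizer (K : Set G), A⁆ ≤ Y ⊓ Subgroup.centralizer (K : Set G) ∧
    ⁅⁅Y ⊓ Subgroup.centralizer (K : Set G), A⁆, A⁆ = ⁅Y ⊓ Subgroup.centralizer (K : Set G), A⁆ :=
  ⟨commutator_le_of_le_normalizer (h.norm_fixed hK),
    commutator_commutator_eq (h.norm_fixed hK)
      ((h.cop le_rfl).coprime_dvd_right (Subgroup.card_dvd_of_le inf_le_left))
      (Or.inr (isSolvable_of_le inf_le_left h.solv))⟩

/-- A homomorphism maps the generated subgroup onto a subgroup containing that of the image. -/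
theorem gens_map_le [Finite G] {G' : Type u} [Group G'] (f : G →* G') (h : Setup A B Y) :
    gens (A.map f) (B.map f) (Y.map f) ≤ (gens A B Y).map f := by
  refine iSup₂_le fun K' hK' => ?_
  set K : Subgroup G := K'.comap f ⊓ B with hK
  have hKB : K ≤ B := inf_le_right
  have hKA : K ≤ A := hKB.trans h.le
  have hfK : K.map f = K' := by
    refine le_antisymm (Subgroup.map_le_iff_le_comap.2 inf_le_left) fun y hy => ?_
    obtain ⟨b, hb, rfl⟩ := hK'.1 hy
    exact ⟨b, ⟨hy, hb⟩, rfl⟩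
  have hcyc : CycQuot B K := by
    refine ⟨hKB, ?_⟩
    intro _
    haveI : IsMulCommutative ↥(B.map f) := by
      refine ⟨⟨fun a b => Subtype.ext ?_⟩⟩
      obtain ⟨a', ha', ha⟩ := a.2
      obtain ⟨b', hb', hb⟩ := b.2
      show (a : G') * b = b * a
      haveI := h.isComm h.le
      rw [← ha, ← hb, ← map_mul, ← map_mul]
      exact congrArg f (congrArg Subtype.val (mul_comm' (⟨a', ha'⟩ : B) ⟨b', hb'⟩))
    haveI hn : (K'.subgroupOf (B.map f)).Normal := ⟨fun n hn g => by
      rwa [show g * n * g⁻¹ = n by rw [mul_comm' g n, mul_inv_cancel_right]]⟩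
    haveI := @hK'.2 hn
    let φ : ↥B →* ↥(B.map f) := (f.comp B.subtype).codRestrict _ fun b => ⟨b, b.2, rfl⟩
    have hle : K.subgroupOf B ≤ (K'.subgroupOf (B.map f)).comap φ := fun b hb => hb.1
    refine isCyclic_of_injective (QuotientGroup.map _ _ φ hle) ?_
    rw [← MonoidHom.ker_eq_bot_iff, Subgroup.eq_bot_iff_forall]
    intro x hx
    induction x using QuotientGroup.induction_on with
    | _ b =>
      rw [MonoidHom.mem_ker, QuotientGroup.map_mk, QuotientGroup.eq_one_iff] at hx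
      exact (QuotientGroup.eq_one_iff b).2 ⟨hx, b.2⟩
  refine le_trans ?_ (Subgroup.map_mono (term_le_gens hcyc))
  have hsub : term A B Y K =
      ⁅Y ⊓ Subgroup.centralizer (K : Set G), A⁆ ⊓ Subgroup.centralizer (B : Set G) :=
    le_antisymm (fun x hx => ⟨hx.2, hx.1.2⟩)
      fun x hx => ⟨⟨((h.comm_fixed hKA).1 hx.1).1, hx.2⟩, hx.1⟩
  rw [hsub, map_inf_centralizer f
    (h.le.trans (h.norm_commutator (h.norm_fixed hKA)))
    ((h.cop h.le).coprime_dvd_right
      (Subgroup.card_dvd_of_le ((h.comm_fixed hKA).1.trans inf_le_left)))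
    (Or.inr (isSolvable_of_le ((h.comm_fixed hKA).1.trans inf_le_left) h.solv)),
    Subgroup.map_commutator, map_inf_centralizer f (hKA.trans h.norm) (h.cop hKA) (Or.inr h.solv),
    hfK]
  exact fun x hx => ⟨hx.2, hx.1.2⟩

end Setup

/-- Fixed points of a product of two invariant normal subgroups. -/
theorem sup_inf_centralizer_le [Finite G] {B L S R : Subgroup G} (hB : IsPGroup 2 B)
    [IsMulCommutative B] (hL : Odd (Nat.card L)) (hSL : S ≤ L) (hRL : R ≤ L)
    (hLS : L ≤ Subgroup.normalizer (S : Set G)) (hLR : L ≤ Subgroup.normalizer (R : Set G))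
    (hBS : B ≤ Subgroup.normalizer (S : Set G)) (hBR : B ≤ Subgroup.normalizer (R : Set G)) :
    (S ⊔ R) ⊓ Subgroup.centralizer (B : Set G) ≤
      (S ⊓ Subgroup.centralizer (B : Set G)) ⊔ (R ⊓ Subgroup.centralizer (B : Set G)) := by
  rintro x ⟨hx, hxB⟩
  obtain ⟨r, hr, s, hs, rfl⟩ := (mem_sup_of_le_normalizer (hSL.trans hLR)).1 (sup_comm S R ▸ hx)
  have hfix : ∀ b ∈ B, b * s * b⁻¹ * s⁻¹ ∈ S ⊓ R := by
    intro b hb
    have hbs : b * s * b⁻¹ ∈ S := (Subgroup.mem_normalizer_iff.1 (hBS hb) s).1 hs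
    have hbr : b * r * b⁻¹ ∈ R := (Subgroup.mem_normalizer_iff.1 (hBR hb) r).1 hr
    refine Subgroup.mem_inf.2 ⟨S.mul_mem hbs (S.inv_mem hs), ?_⟩
    have e : b * (r * s) * b⁻¹ = r * s := by
      have hc' : b * (r * s) = r * s * b := Subgroup.mem_centralizer_iff.1 hxB b hb
      rw [hc', mul_inv_cancel_right]
    have e2 : b * s * b⁻¹ * s⁻¹ = (b * r * b⁻¹)⁻¹ * r := by
      calc b * s * b⁻¹ * s⁻¹ = (b * r * b⁻¹)⁻¹ * (b * (r * s) * b⁻¹) * s⁻¹ := by simp [mul_assoc]
        _ = (b * r * b⁻¹)⁻¹ * r := by rw [e]; simp [mul_assoc]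
    rw [e2]
    exact R.mul_mem (R.inv_mem hbr) hr
  obtain ⟨c, hc, hsc⟩ := exists_fixed_mod (A := B) (K := S) (N := S ⊓ R)
    ((coprime_of_odd hB hL).coprime_dvd_right (Subgroup.card_dvd_of_le hSL))
    (Or.inl (isSolvable_of_isMulCommutative B)) inf_le_left
    (le_trans (le_inf Subgroup.le_normalizer (hSL.trans hLR)) Subgroup.inf_normalizer_le_normalizer_inf)
    (le_trans (le_inf hBS hBR) Subgroup.inf_normalizer_le_normalizer_inf) hs hfix
  have hd : r * s * c⁻¹ ∈ R ⊓ Subgroup.centralizer (B : Set G) := by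
    refine Subgroup.mem_inf.2 ⟨?_, Subgroup.mul_mem _ hxB (Subgroup.inv_mem _ hc.2)⟩
    have : r * s * c⁻¹ = r * (s * (s⁻¹ * c)⁻¹ * s⁻¹) := by group
    rw [this]
    exact mul_mem hr ((Subgroup.mem_normalizer_iff.1 (hLR (hSL hs)) _).1 (inv_mem hsc.2))
  have : r * s = (r * s * c⁻¹) * c := by group
  rw [this]
  exact mul_mem (Subgroup.mem_sup_right hd) (Subgroup.mem_sup_left hc)

/-- Fixed points of a product of a family of invariant normal subgroups. -/
theorem iSup_inf_centralizer_le [Finite G] {ι : Type*} [Finite ι] {B L W : Subgroup G}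
    (hB : IsPGroup 2 B) [IsMulCommutative B] (hL : Odd (Nat.card L)) (S : ι → Subgroup G)
    (hSL : ∀ i, S i ≤ L) (hLS : ∀ i, L ≤ Subgroup.normalizer (S i : Set G))
    (hBS : ∀ i, B ≤ Subgroup.normalizer (S i : Set G))
    (hW : ∀ i, S i ⊓ Subgroup.centralizer (B : Set G) ≤ W) :
    (⨆ i, S i) ⊓ Subgroup.centralizer (B : Set G) ≤ W := by
  classical
  have := Fintype.ofFinite ι
  suffices h : ∀ s : Finset ι, s.sup S ≤ L ∧ L ≤ Subgroup.normalizer ((s.sup S : Subgroup G) : Set G) ∧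
      B ≤ Subgroup.normalizer ((s.sup S : Subgroup G) : Set G) ∧
      s.sup S ⊓ Subgroup.centralizer (B : Set G) ≤ W by
    have := (h Finset.univ).2.2.2
    rwa [Finset.sup_eq_iSup, show (⨆ i ∈ (Finset.univ : Finset ι), S i) = ⨆ i, S i by simp] at this
  intro s
  induction s using Finset.induction_on with
  | empty =>
    rw [Finset.sup_empty, Subgroup.normalizer_eq_top]
    exact ⟨bot_le, le_top, le_top, inf_le_left.trans bot_le⟩
  | insert i s hi ih =>
    obtain ⟨h1, h2, h3, h4⟩ := ih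
    rw [Finset.sup_insert]
    exact ⟨sup_le (hSL i) h1, (le_inf (hLS i) h2).trans (Subgroup.normalizer_inf_normalizer_le_normalizer_sup _ _),
      (le_inf (hBS i) h3).trans (Subgroup.normalizer_inf_normalizer_le_normalizer_sup _ _),
      (sup_inf_centralizer_le hB hL (hSL i) h1 (hLS i) h2 (hBS i) h3).trans (sup_le (hW i) h4)⟩

end Cfsg.Agent.Coprime.CommGen
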