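import Cfsg.Agent.Lib.Coprime.CommGen.Main

/-!
The induction for the generation of `C_Y(B)` by commutator terms.
-/

set_option autoImplicit false
set_option maxHeartbeats 800000

namespace Cfsg.Agent.Coprime.CommGen

open scoped commutatorElement Pointwise

universe u

variable {G : Type u} [Group G]

theorem le_normalizer_iSup {ι : Sort*} {M : Subgroup G} (S : ι → Subgroup G)
    (h : ∀ i, M ≤ Subgroup.normalizer (S i : Set G)) :
    M ≤ Subgroup.normalizer ((⨆ i, S i : Subgroup G) : Set G) := by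
  intro g hg
  rw [← conj_smul_eq_self_iff, conj_smul_eq_map, Subgroup.map_iSup]
  refine iSup_congr fun i => ?_
  rw [← conj_smul_eq_map, conj_smul_eq_self_iff]
  exact h i hg

theorem le_normalizer_of_commutator_le {L M : Subgroup G} (hM : M ≤ L) (hc : ⁅L, L⁆ ≤ M) :
    L ≤ Subgroup.normalizer (M : Set G) :=
  Subgroup.le_normalizer_iff.mpr fun l hl m hm => by
    have : l * m * l⁻¹ = ⁅l, m⁆ * m := by rw [commutatorElement_def]; group
    rw [this]
    exact mul_mem (hc (Subgroup.commutator_mem_commutator hl (hM hm))) hm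

theorem le_normalizer_commutator {M S T : Subgroup G} (hS : M ≤ Subgroup.normalizer (S : Set G))
    (hT : M ≤ Subgroup.normalizer (T : Set G)) :
    M ≤ Subgroup.normalizer ((⁅S, T⁆ : Subgroup G) : Set G) := fun g hg => by
  rw [← conj_smul_eq_self_iff, conj_smul_commutator, conj_smul_eq_self_iff.mpr (hS hg),
    conj_smul_eq_self_iff.mpr (hT hg)]

theorem centralizer_le_normalizer (K : Subgroup G) :
    Subgroup.centralizer (K : Set G) ≤ Subgroup.normalizer (K : Set G) := fun c hc => by
  rw [Subgroup.mem_normalizer_iff]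
  intro a
  constructor
  · intro ha
    rwa [← Subgroup.mem_centralizer_iff.1 hc a ha, mul_inv_cancel_right]
  · intro ha
    have h := Subgroup.mem_centralizer_iff.1 hc _ ha
    rw [inv_mul_cancel_right] at h
    rwa [← mul_left_cancel h] at ha

theorem gens_map_ge {G' : Type u} [Group G'] (f : G →* G') (A B Y : Subgroup G) [IsMulCommutative B] :
    (gens A B Y).map f ≤ gens (A.map f) (B.map f) (Y.map f) := by
  have hc : ∀ K : Subgroup G, (Subgroup.centralizer (K : Set G)).map f ≤
      Subgroup.centralizer ((K.map f : Subgroup G') : Set G') := by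
    rintro K _ ⟨x, hx, rfl⟩
    rw [Subgroup.mem_centralizer_iff]
    rintro _ ⟨k, hk, rfl⟩
    rw [← map_mul, ← map_mul, Subgroup.mem_centralizer_iff.1 hx k hk]
  simp only [gens, Subgroup.map_iSup]
  refine iSup₂_le fun K hK => le_trans ?_ (le_iSup_of_le (K.map f) (le_iSup_of_le ?_ le_rfl))
  · refine le_inf ((Subgroup.map_mono inf_le_left).trans
      ((Subgroup.map_inf_le _ _ _).trans (inf_le_inf le_rfl (hc B)))) ?_
    refine (Subgroup.map_mono inf_le_right).trans (le_of_eq_of_le (Subgroup.map_commutator _ _ _) ?_)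
    exact Subgroup.commutator_mono ((Subgroup.map_inf_le _ _ _).trans (inf_le_inf le_rfl (hc K))) le_rfl
  · refine ⟨Subgroup.map_mono hK.1, ?_⟩
    intro hn'
    let φ : ↥B →* ↥(B.map f) := (f.comp B.subtype).codRestrict _ fun b => ⟨b, b.2, rfl⟩
    have hle : K.subgroupOf B ≤ ((K.map f).subgroupOf (B.map f)).comap φ :=
      fun b hb => ⟨b, hb, rfl⟩
    haveI hn : (K.subgroupOf B).Normal := ⟨fun n hn g => by
      rwa [show g * n * g⁻¹ = n by rw [mul_comm' g n, mul_inv_cancel_right]]⟩
    haveI := @hK.2 hn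
    have hs : Function.Surjective φ := fun ⟨y, b, hb, hy⟩ => ⟨⟨b, hb⟩, Subtype.ext hy⟩
    refine isCyclic_of_surjective (QuotientGroup.map _ _ φ hle) fun q => ?_
    induction q using QuotientGroup.induction_on with
    | _ y => obtain ⟨b, rfl⟩ := hs y; exact ⟨QuotientGroup.mk b, rfl⟩

/-- A nontrivial normal subgroup lowers the order of the image. -/
theorem card_map_lt [Finite G] {G' : Type u} [Group G'] (f : G →* G') {Y T : Subgroup G}
    (hTY : T ≤ Y) (hT : T ≠ ⊥) (hTf : T ≤ f.ker) : Nat.card (Y.map f) < Nat.card Y := by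
  obtain ⟨t, ht, ht1⟩ := T.bot_or_exists_ne_one.resolve_left hT
  let g : ↥Y → ↥(Y.map f) := fun y => ⟨f y, y, y.2, rfl⟩
  have hs : Function.Surjective g := fun ⟨z, y, hy, hz⟩ => ⟨⟨y, hy⟩, Subtype.ext hz⟩
  refine (Nat.card_le_card_of_surjective g hs).lt_of_ne fun h => ht1 ?_
  have hb := (Nat.bijective_iff_surjective_and_card g).2 ⟨hs, h.symm⟩
  exact congrArg Subtype.val (hb.1 (a₁ := ⟨t, hTY ht⟩) (a₂ := 1)
    (Subtype.ext ((MonoidHom.mem_ker.1 (hTf ht)).trans (map_one f).symm)))

theorem Setup.map [Finite G] {A B Y : Subgroup G} (h : Setup A B Y) {G' : Type u} [Group G']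
    (f : G →* G') : Setup (A.map f) (B.map f) (Y.map f) where
  two := h.two.map f
  comm := by
    refine ⟨⟨fun a b => Subtype.ext ?_⟩⟩
    obtain ⟨a', ha', ha⟩ := a.2
    obtain ⟨b', hb', hb⟩ := b.2
    show (a : G') * b = b * a
    haveI := h.comm
    rw [← ha, ← hb, ← map_mul, ← map_mul]
    exact congrArg f (congrArg Subtype.val (mul_comm' (⟨a', ha'⟩ : A) ⟨b', hb'⟩))
  le := Subgroup.map_mono h.le
  odd := h.odd.of_dvd_nat (Subgroup.card_map_dvd _ _)
  solv := isSolvable_map f h.solv
  norm := (Subgroup.map_mono h.norm).trans (Subgroup.le_normalizer_map f)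

theorem main : ∀ n, ∀ {G : Type u} [Group G] [Finite G] (A B Y : Subgroup G), Nat.card Y = n →
    Setup A B Y → ⁅Y, A⁆ = Y → Y ⊓ Subgroup.centralizer (B : Set G) ≤ gens A B Y := by
  intro n
  induction n using Nat.strongRecOn with
  | ind n ih =>
  intro G _ _ A B Y hn h hYA
  haveI : IsMulCommutative B := h.isComm h.le
  have hB2 : IsPGroup 2 B := h.two.to_le h.le
  rcases eq_or_ne Y ⊥ with hY | hY
  · rw [hY, bot_inf_eq]; exact bot_le
  by_cases hdone : ∃ K, CycQuot B K ∧ Y ≤ Subgroup.centralizer (K : Set G)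
  · obtain ⟨K, hK, hYK⟩ := hdone
    refine le_trans ?_ (term_le_gens hK)
    rw [term, inf_eq_left.2 hYK, hYA]
    exact le_inf le_rfl inf_le_left
  push Not at hdone
  -- subsidiary induction hypothesis
  have hIH : ∀ Z : Subgroup G, Z ≤ Y → A ≤ Subgroup.normalizer (Z : Set G) → ⁅Z, A⁆ ≠ Y →
      ⁅Z, A⁆ ⊓ Subgroup.centralizer (B : Set G) ≤ gens A B Y := by
    intro Z hZ hAZ hne
    have hle : ⁅Z, A⁆ ≤ Y := (commutator_le_of_le_normalizer hAZ).trans hZ
    have hs := h.of_le hle (h.norm_commutator hAZ)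
    have hcard : Nat.card (⁅Z, A⁆ : Subgroup G) < n := hn ▸ (Subgroup.card_le_of_le hle).lt_of_ne
      fun e => hne (Subgroup.eq_of_le_of_card_ge hle e.ge)
    exact (ih _ hcard A B _ rfl hs (commutator_commutator_eq hAZ
      ((h.cop le_rfl).coprime_dvd_right (Subgroup.card_dvd_of_le hZ))
      (Or.inr (isSolvable_of_le hZ h.solv)))).trans (gens_mono hle)
  have hgen := le_iSup_fixed hB2 h.odd h.solv (h.le.trans h.norm)
  set Zc : Subgroup G := Y ⊓ Subgroup.centralizer (Y : Set G) ⊓ Subgroup.centralizer (A : Set G)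
    with hZc
  have hZcK : ∀ K ≤ A, Zc ≤ Subgroup.centralizer (K : Set G) :=
    fun K hK => inf_le_right.trans (Subgroup.centralizer_le hK)
  have hYgood : ¬ Y ≤ Zc := fun hle => hY (by
    rw [← hYA, Subgroup.commutator_eq_bot_iff_le_centralizer]
    exact hle.trans inf_le_right)
  obtain ⟨L, hLmem, hmin⟩ := Finset.exists_min_image
    (Set.toFinite {L : Subgroup G | L ≤ Y ∧ Y ≤ Subgroup.normalizer (L : Set G) ∧
      A ≤ Subgroup.normalizer (L : Set G) ∧ ¬ L ≤ Zc}).toFinset (fun L => Nat.card L)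
    ⟨Y, by simp [Subgroup.le_normalizer, h.norm, hYgood]⟩
  obtain ⟨hLY, hYL, hAL, hLZ⟩ := (Set.Finite.mem_toFinset _).1 hLmem
  have hmin' : ∀ M : Subgroup G, M ≤ L → Y ≤ Subgroup.normalizer (M : Set G) →
      A ≤ Subgroup.normalizer (M : Set G) → M ≤ Zc ∨ M = L := by
    intro M hM h1 h2
    by_contra hcon
    push Not at hcon
    exact hcon.2 (Subgroup.eq_of_le_of_card_ge hM (hmin M ((Set.Finite.mem_toFinset _).2 ⟨hM.trans hLY, h1, h2, hcon.1⟩)))
  have hL' : ⁅L, L⁆ ≤ Zc := by
    have hlt : ⁅L, L⁆ < L := commutator_lt_of_isSolvable (isSolvable_of_le hLY h.solv)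
      fun e => hLZ (e ▸ bot_le)
    exact (hmin' _ hlt.le (le_normalizer_commutator hYL hYL) (le_normalizer_commutator hAL hAL)
      ).resolve_right hlt.ne
  -- the commutator terms
  let X : Subgroup G → Subgroup G := fun K => ⁅Y ⊓ Subgroup.centralizer (K : Set G), A⁆
  have hXc : ∀ K ≤ A, X K ≤ Y ⊓ Subgroup.centralizer (K : Set G) := fun K hK => (h.comm_fixed hK).1
  have hXA : ∀ K ≤ A, A ≤ Subgroup.normalizer (X K : Set G) :=
    fun K hK => h.norm_commutator (h.norm_fixed hK)
  have hRA : ∀ K ≤ A, A ≤ Subgroup.normalizer ((L ⊔ X K : Subgroup G) : Set G) := fun K hK =>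
    (le_inf hAL (hXA K hK)).trans (Subgroup.normalizer_inf_normalizer_le_normalizer_sup _ _)
  by_cases hb : ∃ K, CycQuot B K ∧ L ⊔ X K = Y
  · obtain ⟨K, hK, hYK⟩ := hb
    have hKA : K ≤ A := hK.1.trans h.le
    have hAC := h.le_centralizer hKA
    have hXL : X K ≤ Subgroup.normalizer (L : Set G) := ((hXc K hKA).trans inf_le_left).trans hYL
    have hXCK : X K ≤ Subgroup.centralizer (K : Set G) := (hXc K hKA).trans inf_le_right
    set CL := L ⊓ Subgroup.centralizer (K : Set G) with hCL
    have hnC : ∀ M : Subgroup G, M ≤ Subgroup.normalizer (L : Set G) →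
        M ≤ Subgroup.centralizer (K : Set G) → M ≤ Subgroup.normalizer (CL : Set G) := fun M h1 h2 =>
      (le_inf h1 (h2.trans Subgroup.le_normalizer)).trans Subgroup.inf_normalizer_le_normalizer_inf
    have hYCL : Y ≤ Subgroup.normalizer (CL : Set G) := by
      rw [← hYK]
      exact sup_le (le_normalizer_of_commutator_le inf_le_left
        (le_inf (Subgroup.commutator_le_self L) (hL'.trans (hZcK K hKA)))) (hnC _ hXL hXCK)
    have hCLZ : CL ≤ Zc := by
      rcases hmin' CL inf_le_left hYCL (hnC _ hAL hAC) with h1 | h1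
      · exact h1
      · exfalso
        refine hdone K hK ?_
        rw [← hYK]
        exact sup_le (h1 ▸ inf_le_right) hXCK
    set J := ⁅L, K⁆ with hJ
    have hJn : ∀ M : Subgroup G, M ≤ Subgroup.normalizer (L : Set G) →
        M ≤ Subgroup.centralizer (K : Set G) → M ≤ Subgroup.normalizer (J : Set G) := fun M h1 h2 =>
      le_normalizer_commutator h1 (h2.trans (centralizer_le_normalizer K))
    have hKL : K ≤ Subgroup.normalizer (L : Set G) := hKA.trans hAL
    have hJL : J ≤ L := commutator_le_of_le_normalizer hKL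
    have hJX : Y = J ⊔ X K := by
      refine le_antisymm ?_ (sup_le (hJL.trans hLY) ((hXc K hKA).trans inf_le_left))
      have hsplit : J ⊔ CL = L := commutator_sup_inf_centralizer hKL
        ((h.cop hKA).coprime_dvd_right (Subgroup.card_dvd_of_le hLY))
        (Or.inr (isSolvable_of_le hLY h.solv))
      have hAJX : A ≤ Subgroup.normalizer ((J ⊔ X K : Subgroup G) : Set G) :=
        (le_inf (hJn A hAL hAC) (hXA K hKA)).trans
          (Subgroup.normalizer_inf_normalizer_le_normalizer_sup _ _)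
      have hCn : CL ≤ Subgroup.normalizer ((J ⊔ X K : Subgroup G) : Set G) :=
        (hCLZ.trans (inf_le_left.trans inf_le_right)).trans ((Subgroup.centralizer_le
          (SetLike.coe_subset_coe.2 (show J ⊔ X K ≤ Y from
            sup_le (hJL.trans hLY) ((hXc K hKA).trans inf_le_left)))).trans (centralizer_le_normalizer _))
      have hY2 : Y = (J ⊔ X K) ⊔ CL := by
        conv_lhs => rw [← hYK, ← hsplit]
        ac_rfl
      calc Y = ⁅Y, A⁆ := hYA.symm
        _ ≤ ⁅J ⊔ X K, A⁆ := commutator_le_of_forall_eq_mul fun k hk => by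
          obtain ⟨x, hx, c, hc, rfl⟩ := (mem_sup_of_le_normalizer hCn).1 (hY2 ▸ hk)
          exact ⟨x, hx, c, (hCLZ hc).2, rfl⟩
        _ ≤ _ := commutator_le_of_le_normalizer hAJX
    intro x hx
    obtain ⟨hxY, hxB⟩ := Subgroup.mem_inf.1 hx
    have hxK : x ∈ Subgroup.centralizer (K : Set G) := Subgroup.centralizer_le hK.1 hxB
    obtain ⟨j, hj, x', hx', rfl⟩ := (mem_sup_of_le_normalizer (hJn _ hXL hXCK)).1 (hJX ▸ hxY)
    have hjK : j ∈ Subgroup.centralizer (K : Set G) := by
      have := Subgroup.mul_mem _ hxK (Subgroup.inv_mem _ (hXCK hx'))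
      rwa [mul_inv_cancel_right] at this
    have hjB : j ∈ Subgroup.centralizer (B : Set G) :=
      Subgroup.centralizer_le h.le (hCLZ (Subgroup.mem_inf.2 ⟨hJL hj, hjK⟩)).2
    have hx'B : x' ∈ Subgroup.centralizer (B : Set G) := by
      have := Subgroup.mul_mem _ (Subgroup.inv_mem _ hjB) hxB
      rwa [inv_mul_cancel_left] at this
    refine Subgroup.mul_mem _ ?_ (term_le_gens hK
      (Subgroup.mem_inf.2 ⟨Subgroup.mem_inf.2 ⟨((hXc K hKA) hx').1, hx'B⟩, hx'⟩))
    by_cases hU : ⁅L, A⁆ = Y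
    · exfalso
      have hLeq : L = Y := le_antisymm hLY (hU ▸ commutator_le_of_le_normalizer hAL)
      subst hLeq
      obtain ⟨K₀, hK₀, hn₀⟩ : ∃ K₀, CycQuot B K₀ ∧ ¬ L ⊓ Subgroup.centralizer (K₀ : Set G) ≤ Zc := by
        by_contra hcon
        push Not at hcon
        exact hYgood (hgen.trans (iSup₂_le hcon))
      rcases hmin' _ inf_le_left (le_normalizer_of_commutator_le inf_le_left
          (le_inf (Subgroup.commutator_le_self L) (hL'.trans (hZcK K₀ (hK₀.1.trans h.le)))))
          (h.norm_fixed (hK₀.1.trans h.le)) with h1 | h1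
      · exact hn₀ h1
      · exact hdone K₀ hK₀ (h1 ▸ inf_le_right)
    · exact hIH L hLY hAL hU (Subgroup.mem_inf.2 ⟨Subgroup.commutator_mono le_rfl hKA hj, hjB⟩)
  push Not at hb
  let ι := {K : Subgroup G // CycQuot B K}
  let S : ι → Subgroup G := fun K => L ⊓ ⁅L ⊔ X K.1, A⁆
  have hR : ∀ K : ι, L ⊔ X K.1 ≤ Y := fun K =>
    sup_le hLY ((hXc _ (K.2.1.trans h.le)).trans inf_le_left)
  have hRn : ∀ K : ι, A ≤ Subgroup.normalizer ((L ⊔ X K.1 : Subgroup G) : Set G) :=
    fun K => hRA _ (K.2.1.trans h.le)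
  have hZR : ∀ K : ι, L ⊔ X K.1 ≤ Subgroup.normalizer ((⁅L ⊔ X K.1, A⁆ : Subgroup G) : Set G) :=
    fun K => Subgroup.normalizer_commutator_ge_left _ _
  have hSA : ∀ K : ι, A ≤ Subgroup.normalizer (S K : Set G) := fun K =>
    (le_inf hAL (h.norm_commutator (hRn K))).trans Subgroup.inf_normalizer_le_normalizer_inf
  have hSL : ∀ K : ι, L ≤ Subgroup.normalizer (S K : Set G) := fun K =>
    (le_inf Subgroup.le_normalizer (le_sup_left.trans (hZR K))).trans
      Subgroup.inf_normalizer_le_normalizer_inf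
  set T := ⨆ K : ι, S K with hT
  have hTW : T ⊓ Subgroup.centralizer (B : Set G) ≤ gens A B Y :=
    iSup_inf_centralizer_le hB2 (odd_of_le hLY h.odd) S (fun _ => inf_le_left) hSL
      (fun K => h.le.trans (hSA K)) fun K => (inf_le_inf_right _ inf_le_right).trans
        (hIH _ (hR K) (hRn K) fun e => hb K.1 K.2 (le_antisymm (hR K)
          (le_of_eq_of_le e.symm (commutator_le_of_le_normalizer (hRn K)))))
  have hTL : T ≤ L := iSup_le fun _ => inf_le_left
  have hcommS : ∀ (K : ι), ∀ x ∈ X K.1, ∀ t ∈ L, ⁅x, t⁆ ∈ S K := by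
    intro K x hx t ht
    have hKA := K.2.1.trans h.le
    have hxZ : x ∈ ⁅L ⊔ X K.1, A⁆ :=
      Subgroup.commutator_mono le_sup_right le_rfl ((h.comm_fixed hKA).2.symm ▸ hx)
    refine Subgroup.mem_inf.2 ⟨?_, ?_⟩
    · rw [commutatorElement_def]
      exact L.mul_mem (Subgroup.le_normalizer_iff.mp (((hXc _ hKA).trans inf_le_left).trans hYL) x hx t ht)
        (L.inv_mem ht)
    · rw [show ⁅x, t⁆ = x * (t * x⁻¹ * t⁻¹) by rw [commutatorElement_def]; group]
      exact Subgroup.mul_mem _ hxZ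
        (Subgroup.le_normalizer_iff.mp (hZR K) t (Subgroup.mem_sup_left ht) _ (Subgroup.inv_mem _ hxZ))
  -- `Y` is generated by the commutator terms
  have hYX : Y ≤ ⨆ K : ι, X K.1 := by
    set N := ⨆ K : ι, X K.1 with hN
    set C := Y ⊓ Subgroup.centralizer (A : Set G) with hC
    have hCN : C ≤ Subgroup.normalizer (N : Set G) := le_normalizer_iSup _ fun K =>
      le_normalizer_commutator
        ((le_inf (inf_le_left.trans Subgroup.le_normalizer)
          ((inf_le_right.trans (Subgroup.centralizer_le (K.2.1.trans h.le))).trans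
            Subgroup.le_normalizer)).trans Subgroup.inf_normalizer_le_normalizer_inf)
        (inf_le_right.trans (centralizer_le_normalizer A))
    have hYNC : Y ≤ N ⊔ C := hgen.trans (iSup₂_le fun K hK => by
      have hKA := hK.1.trans h.le
      rw [← commutator_sup_inf_centralizer (h.norm_fixed hKA)
        ((h.cop le_rfl).coprime_dvd_right (Subgroup.card_dvd_of_le inf_le_left))
        (Or.inr (isSolvable_of_le inf_le_left h.solv))]
      exact sup_le_sup (le_iSup_of_le (⟨K, hK⟩ : ι) le_rfl) (inf_le_inf_right _ inf_le_left))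
    calc Y = ⁅Y, A⁆ := hYA.symm
      _ ≤ ⁅N, A⁆ := commutator_le_of_forall_eq_mul fun k hk => by
        obtain ⟨x, hx, c, hc, rfl⟩ := (mem_sup_of_le_normalizer hCN).1 (hYNC hk)
        exact ⟨x, hx, c, (Subgroup.mem_inf.1 hc).2, rfl⟩
      _ ≤ N := commutator_le_of_le_normalizer
        (le_normalizer_iSup _ fun K => hXA _ (K.2.1.trans h.le))
  have hYT : Y ≤ Subgroup.normalizer (T : Set G) := hYX.trans (iSup_le fun K => by
    rw [Subgroup.le_normalizer_iff]
    intro x hx t ht
    have : x * t * x⁻¹ = ⁅x, t⁆ * t := by rw [commutatorElement_def]; group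
    rw [this]
    exact T.mul_mem (le_iSup S K (hcommS K x hx t (hTL ht))) ht)
  have hAT : A ≤ Subgroup.normalizer (T : Set G) := le_normalizer_iSup _ hSA
  have hTne : T ≠ ⊥ := by
    intro e
    have hS : ∀ K, S K = ⊥ := fun K => le_bot_iff.1 (e ▸ le_iSup S K)
    refine hLZ (le_inf (le_inf hLY ?_) ?_)
    · rw [Subgroup.le_centralizer_iff]
      refine hYX.trans (iSup_le fun K x hx => ?_)
      rw [Subgroup.mem_centralizer_iff]
      intro t ht
      have := hcommS K x hx t ht
      rw [hS, Subgroup.mem_bot, commutatorElement_eq_one_iff_commute] at this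
      exact this.eq.symm
    · rw [← Subgroup.commutator_eq_bot_iff_le_centralizer, ← le_bot_iff, ← hS ⟨B, cycQuot_self B⟩]
      exact le_inf (commutator_le_of_le_normalizer hAL) (Subgroup.commutator_mono le_sup_left le_rfl)
  -- pass to the quotient by `T`
  set H := Y ⊔ A with hH
  haveI : (T.subgroupOf H).Normal :=
    (Subgroup.normal_subgroupOf_iff_le_normalizer ((hTL.trans hLY).trans le_sup_left)).2
      (sup_le hYT hAT)
  set A' := A.subgroupOf H
  set B' := B.subgroupOf H
  set Y' := Y.subgroupOf H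
  have eA : A'.map H.subtype = A := by
    rw [Subgroup.subgroupOf_map_subtype, inf_eq_left]; exact le_sup_right
  have eB : B'.map H.subtype = B := by
    rw [Subgroup.subgroupOf_map_subtype, inf_eq_left]; exact h.le.trans le_sup_right
  have eY : Y'.map H.subtype = Y := by
    rw [Subgroup.subgroupOf_map_subtype, inf_eq_left]; exact le_sup_left
  have h' : Setup A' B' Y' :=
    { two := h.two.comap_subtype
      comm := ⟨⟨fun a b => Subtype.ext (Subtype.ext (by
        haveI := h.comm
        show ((a : H) : G) * (b : H) = (b : H) * (a : H)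
        exact congrArg Subtype.val (mul_comm' (⟨((a : H) : G), a.2⟩ : A) ⟨((b : H) : G), b.2⟩)))⟩⟩
      le := fun x hx => h.le hx
      odd := (Nat.card_congr (Subgroup.subgroupOfEquivOfLe (le_sup_left : Y ≤ H)).toEquiv).symm ▸ h.odd
      solv := by
        haveI := h.solv
        exact solvable_of_solvable_injective
          (f := (Subgroup.subgroupOfEquivOfLe (le_sup_left : Y ≤ H)).toMonoidHom)
          (Subgroup.subgroupOfEquivOfLe (le_sup_left : Y ≤ H)).injective
      norm := fun a ha => by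
        rw [Subgroup.mem_normalizer_iff]
        exact fun z => Subgroup.mem_normalizer_iff.1 (h.norm ha) (z : G) }
  have hYA' : ⁅Y', A'⁆ = Y' := Subgroup.map_injective H.subtype_injective
    (by rw [Subgroup.map_commutator, eA, eY, hYA])
  set f := QuotientGroup.mk' (T.subgroupOf H)
  have hlt : Nat.card (Y'.map f) < n := by
    refine lt_of_lt_of_eq (card_map_lt f (T := T.subgroupOf H) (fun x hx => (hTL.trans hLY) hx) ?_
      (by rw [QuotientGroup.ker_mk'])) ?_
    · rw [ne_eq, Subgroup.subgroupOf_eq_bot, disjoint_iff, inf_eq_left.2 ((hTL.trans hLY).trans le_sup_left)]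
      exact hTne
    · rw [← hn]; exact Nat.card_congr (Subgroup.subgroupOfEquivOfLe (le_sup_left : Y ≤ H)).toEquiv
  have hQ := ih _ hlt (A'.map f) (B'.map f) (Y'.map f) rfl (h'.map f)
    (by rw [← Subgroup.map_commutator, hYA'])
  intro x hx
  obtain ⟨hxY, hxB⟩ := Subgroup.mem_inf.1 hx
  set x' : H := ⟨x, Subgroup.mem_sup_left hxY⟩ with hx'
  have hfx : f x' ∈ Y'.map f ⊓ Subgroup.centralizer ((B'.map f : Subgroup _) : Set _) := by
    refine Subgroup.mem_inf.2 ⟨Subgroup.mem_map_of_mem f (show x' ∈ Y' from hxY), ?_⟩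
    rw [Subgroup.mem_centralizer_iff]
    rintro _ ⟨b, hb, rfl⟩
    rw [← map_mul, ← map_mul]
    exact congrArg f (Subtype.ext (Subgroup.mem_centralizer_iff.1 hxB (b : G) hb))
  obtain ⟨w, hw, hwx⟩ := h'.gens_map_le f (hQ hfx)
  have hwG : (w : G) ∈ gens A B Y := by
    have := gens_map_ge H.subtype A' B' Y' (Subgroup.mem_map_of_mem H.subtype hw)
    rwa [eA, eB, eY] at this
  have ht0 : w⁻¹ * x' ∈ T.subgroupOf H := by
    rw [← QuotientGroup.eq]
    exact hwx
  have ht : (w : G)⁻¹ * x ∈ T := ht0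
  have := Subgroup.mul_mem _ hwG (hTW (Subgroup.mem_inf.2 ⟨ht,
    Subgroup.mul_mem _ (Subgroup.inv_mem _ ((gens_le A B Y) hwG).2) hxB⟩))
  rwa [mul_inv_cancel_left] at this

/-- The generation lemma. -/
theorem inf_centralizer_eq [Finite G] {A B Y : Subgroup G} (h : Setup A B Y) (hYA : ⁅Y, A⁆ = Y) :
    Y ⊓ Subgroup.centralizer (B : Set G) = gens A B Y :=
  le_antisymm (main _ A B Y rfl h hYA) (gens_le A B Y)

end Cfsg.Agent.Coprime.CommGen
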